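import Groth.Agent.DetEuler31.Cone
import Groth.Prelude.Def_SGA4hB
import Mathlib.Algebra.Homology.DerivedCategory.KProjective
import Mathlib.Algebra.Category.ModuleCat.Abelian
import Mathlib.Algebra.Category.ModuleCat.Projective
import Mathlib.LinearAlgebra.Matrix.BaseChange
import Mathlib.LinearAlgebra.TensorProduct.Basis
import Mathlib.RingTheory.TensorProduct.Free
import Mathlib.LinearAlgebra.Dimension.Free
import Mathlib.Data.Int.Interval

/-! Translation of bounded complexes of finite free modules into matrices. -/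

set_option autoImplicit false

universe u

open CategoryTheory CategoryTheory.Limits Matrix Polynomial TensorProduct

noncomputable section

namespace Groth.Agent.DetEuler31

variable {A : Type u} [CommRing A]

/-- families of maps -/
abbrev Fam (K L : CochainComplex (ModuleCat.{u} A) ℤ) := ∀ i j, K.X i ⟶ L.X j

variable (W : Finset ℤ) (K L M : CochainComplex (ModuleCat.{u} A) ℤ)
  [∀ i, Module.Finite A (K.X i)] [∀ i, Module.Free A (K.X i)]
  [∀ i, Module.Finite A (L.X i)] [∀ i, Module.Free A (L.X i)]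
  [∀ i, Module.Finite A (M.X i)] [∀ i, Module.Free A (M.X i)]

/-- index type -/
abbrev Idx : Type u := Σ i : ↥W, Module.Free.ChooseBasisIndex A (K.X i.1)

/-- degree -/
def deg : Idx W K → ℤ := fun x => x.1.1

instance : DecidableEq (Idx W K) := Classical.decEq _

variable {K L M}

/-- total matrix -/
def mat (φ : Fam K L) : Matrix (Idx W L) (Idx W K) A := fun x y =>
  LinearMap.toMatrix (Module.Free.chooseBasis A (K.X y.1.1)) (Module.Free.chooseBasis A (L.X x.1.1))
    (φ y.1.1 x.1.1).hom x.2 y.2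

theorem mat_congr {φ ψ : Fam K L} (h : ∀ i ∈ W, ∀ j ∈ W, φ i j = ψ i j) : mat W φ = mat W ψ := by
  ext x y
  simp only [mat, h _ y.1.2 _ x.1.2]

theorem mat_add (φ ψ : Fam K L) : mat W (φ + ψ) = mat W φ + mat W ψ := by
  ext x y
  simp [mat]

theorem mat_neg (φ : Fam K L) : mat W (-φ) = -mat W φ := by
  ext x y
  simp [mat]

theorem mat_mul (φ : Fam K L) (ψ : Fam L M) :
    mat W ψ * mat W φ = mat W fun i k => ∑ j ∈ W, φ i j ≫ ψ j k := by
  classical
  ext x y
  rw [Matrix.mul_apply, Fintype.sum_sigma]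
  simp only [mat, ModuleCat.hom_sum, map_sum, Matrix.sum_apply, ModuleCat.hom_comp]
  rw [← Finset.sum_coe_sort W]
  refine Finset.sum_congr rfl fun j _ => ?_
  rw [LinearMap.toMatrix_comp _ (Module.Free.chooseBasis A (L.X j.1)), Matrix.mul_apply]

theorem mat_deg {n : ℤ} {φ : Fam K L} (h : ∀ i j, j ≠ i + n → φ i j = 0) :
    Deg (deg W L) (deg W K) n (mat W φ) := fun x y hne => by
  simp [mat, h y.1.1 x.1.1 hne]

/-- the family of a degree zero map -/
def deg0 (f : K ⟶ L) : Fam K L := fun i j => if h : i = j then f.f i ≫ eqToHom (by rw [h]) else 0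

theorem deg0_self (f : K ⟶ L) (i : ℤ) : deg0 f i i = f.f i := by simp [deg0]

theorem deg0_ne (f : K ⟶ L) {i j : ℤ} (h : i ≠ j) : deg0 f i j = 0 := by simp [deg0, h]

theorem mat_deg0 (f : K ⟶ L) : Deg (deg W L) (deg W K) 0 (mat W (deg0 f)) :=
  mat_deg W fun _ _ h => deg0_ne f fun e => h (by rw [e, add_zero])

theorem mat_id : mat W (deg0 (𝟙 K)) = 1 := by
  classical
  ext ⟨i, r⟩ ⟨j, c⟩
  by_cases h : i = j
  · subst h
    simp [mat, deg0_self, Matrix.one_apply]
  · rw [Matrix.one_apply_ne (fun e => h (congrArg Sigma.fst e))]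
    simp [mat, deg0_ne _ (fun e : j.1 = i.1 => h (Subtype.ext e).symm)]

theorem sum_single {G : Type*} [AddCommMonoid G] {F : ℤ → G} (c : ℤ) (h : ∀ j, j ≠ c → F j = 0)
    (h' : c ∉ W → F c = 0) : ∑ j ∈ W, F j = F c :=
  Finset.sum_eq_single c (fun j _ hj => h j hj) h'

theorem mat_comp (f : K ⟶ L) (g : L ⟶ M) : mat W (deg0 g) * mat W (deg0 f) = mat W (deg0 (f ≫ g)) := by
  rw [mat_mul]
  refine mat_congr W fun i hi k _ => ?_
  rw [sum_single W i (fun j hj => by rw [deg0_ne f (Ne.symm hj), Limits.zero_comp]) (fun h => absurd hi h), deg0_self]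
  by_cases h : i = k
  · subst h; simp [deg0_self]
  · simp [deg0_ne _ h]

theorem mat_d_deg : Deg (deg W K) (deg W K) 1 (mat W K.d) :=
  mat_deg W fun i j h => K.shape i j fun (e : i + 1 = j) => h e.symm

theorem mat_dd : mat W K.d * mat W K.d = 0 := by
  rw [mat_mul, mat_congr W (ψ := 0) fun i _ k _ => Finset.sum_eq_zero fun j _ => K.d_comp_d i j k]
  ext x y
  simp [mat]

theorem mat_comm (f : K ⟶ L) : mat W L.d * mat W (deg0 f) = mat W (deg0 f) * mat W K.d := by
  rw [mat_mul, mat_mul]
  refine mat_congr W fun i hi k hk => ?_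
  rw [sum_single W i (fun j hj => by rw [deg0_ne f (Ne.symm hj), Limits.zero_comp]) (fun h => absurd hi h),
    sum_single W k (fun j hj => by rw [deg0_ne f hj, Limits.comp_zero]) (fun h => absurd hk h), deg0_self, deg0_self,
    f.comm]

theorem mat_homotopy {f g : K ⟶ L} (H : Homotopy f g) (hK : ∀ i ∉ W, IsZero (K.X i)) (hL : ∀ i ∉ W, IsZero (L.X i)) :
    Deg (deg W L) (deg W K) (-1) (mat W H.hom) ∧
      mat W (deg0 f) = mat W L.d * mat W H.hom + mat W H.hom * mat W K.d + mat W (deg0 g) := by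
  refine ⟨mat_deg W fun i j h => H.zero i j fun (e : j + 1 = i) => h (by omega), ?_⟩
  rw [mat_mul, mat_mul, ← mat_add, ← mat_add]
  refine mat_congr W fun i hi k hk => ?_
  simp only [Pi.add_apply]
  by_cases hik : i = k
  · subst hik
    have hc := H.comm i
    rw [dNext_eq H.hom (show (ComplexShape.up ℤ).Rel i (i + 1) from rfl),
      prevD_eq H.hom (show (ComplexShape.up ℤ).Rel (i - 1) i from sub_add_cancel i 1)] at hc
    rw [sum_single W (i - 1)
        (fun j hj => by rw [H.zero i j (fun (e : j + 1 = i) => hj (by omega)), Limits.zero_comp])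
        (fun h => by rw [(hL _ h).eq_of_src (L.d (i - 1) i) 0, Limits.comp_zero]),
      sum_single W (i + 1)
        (fun j hj => by rw [K.shape i j (fun (e : i + 1 = j) => hj e.symm), Limits.zero_comp])
        (fun h => by rw [(hK _ h).eq_of_tgt (K.d i (i + 1)) 0, Limits.zero_comp]),
      deg0_self, deg0_self, hc]
    abel
  · rw [deg0_ne f hik, deg0_ne g hik, Finset.sum_eq_zero, Finset.sum_eq_zero]
    · simp
    · intro j _
      by_cases h : i + 1 = j
      · rw [H.zero j k (fun (e : k + 1 = j) => hik (by omega)), Limits.comp_zero]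
      · rw [K.shape i j h, Limits.zero_comp]
    · intro j _
      by_cases h : j + 1 = i
      · rw [L.shape j k (fun (e : j + 1 = k) => hik (by omega)), Limits.comp_zero]
      · rw [H.zero i j h, Limits.zero_comp]

theorem detOneSub_eq (N : ModuleCat.{u} A) [Module.Finite A N] [Module.Free A N] (f : N ⟶ N)
    [DecidableEq (Module.Free.ChooseBasisIndex A N)] :
    SGA4h.detOneSub N f = (1 - (X : A[X]) • (LinearMap.toMatrix (Module.Free.chooseBasis A N)
      (Module.Free.chooseBasis A N) f.hom).map Polynomial.C).det := by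
  rw [SGA4h.detOneSub, ← LinearMap.det_toMatrix (Algebra.TensorProduct.basis A[X] (Module.Free.chooseBasis A N))]
  refine congrArg Matrix.det ?_
  ext i j
  by_cases h : i = j <;>
    simp [LinearMap.toMatrix_apply, Matrix.one_apply, h, Algebra.TensorProduct.basis_repr_tmul,
      Finsupp.single_apply, Ne.symm]

theorem detOneSub_zero (N : ModuleCat.{u} A) [Module.Finite A N] [Module.Free A N] (f : N ⟶ N) (h : IsZero N) :
    SGA4h.detOneSub N f = 1 := by
  haveI : Subsingleton N := ModuleCat.subsingleton_of_isZero h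
  have hz : ∀ z : A[X] ⊗[A] N, z = 0 := fun z => by
    induction z using TensorProduct.induction_on with
    | zero => rfl
    | tmul p q => rw [Subsingleton.elim q 0, tmul_zero]
    | add p q hp hq => rw [hp, hq, add_zero]
  haveI : Subsingleton (A[X] ⊗[A] N) := ⟨fun p q => (hz p).trans (hz q).symm⟩
  exact LinearMap.det_eq_one_of_subsingleton _

open Classical in
theorem det_block (u₀ : K ⟶ K) (s : Set ℤ) :
    ((Matrix.diagonal fun x : Idx W K => if deg W K x ∈ s then (1 : A[X]) else 0) *
        (1 - (X : A[X]) • (mat W (deg0 u₀)).map Polynomial.C) +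
      Matrix.diagonal fun x : Idx W K => if deg W K x ∈ s then (0 : A[X]) else 1).det =
      ∏ i ∈ W with i ∈ s, SGA4h.detOneSub (K.X i) (u₀.f i) := by
  set M0 := (Matrix.diagonal fun x : Idx W K => if deg W K x ∈ s then (1 : A[X]) else 0) *
        (1 - (X : A[X]) • (mat W (deg0 u₀)).map Polynomial.C) +
      Matrix.diagonal fun x : Idx W K => if deg W K x ∈ s then (0 : A[X]) else 1
  have hM : BlockTriangular M0 Sigma.fst := fun x y hxy => by
    have h1 : x ≠ y := fun e => hxy.ne (by rw [e])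
    have h2 : mat W (deg0 u₀) x y = 0 := mat_deg0 W u₀ x y fun e => hxy.ne (Subtype.ext (by simpa [deg] using e.symm))
    simp [M0, Matrix.one_apply_ne h1, Matrix.diagonal_apply_ne _ h1, h2]
  rw [hM.det_fintype, Finset.prod_filter, ← Finset.prod_coe_sort W]
  refine Finset.prod_congr rfl fun i _ => ?_
  rw [← det_reindex_self (Equiv.sigmaSubtype i), detOneSub_eq]
  split
  · rename_i hi
    congr 1
    ext r c
    by_cases hrc : r = c
    · subst hrc
      simp [M0, toSquareBlock_def, deg, hi, mat, deg0_self, Equiv.sigmaSubtype]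
    · have : (⟨i, r⟩ : Idx W K) ≠ ⟨i, c⟩ := fun e => hrc (by simpa using e)
      simp [M0, toSquareBlock_def, deg, hi, mat, deg0_self, Equiv.sigmaSubtype, Matrix.one_apply_ne hrc,
        Matrix.one_apply_ne this, Matrix.diagonal_apply, if_neg this]
  · rename_i hi
    refine Eq.trans (congrArg Matrix.det ?_) Matrix.det_one
    ext r c
    by_cases hrc : r = c
    · subst hrc
      simp [M0, toSquareBlock_def, deg, hi, Equiv.sigmaSubtype]
    · have : (⟨i, r⟩ : Idx W K) ≠ ⟨i, c⟩ := fun e => hrc (by simpa using e)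
      simp [M0, toSquareBlock_def, deg, hi, Equiv.sigmaSubtype, Matrix.one_apply_ne hrc,
        Matrix.one_apply_ne this, Matrix.diagonal_apply, Matrix.diagonal_mul, if_neg this, if_neg hrc]

theorem finprod_eq (u₀ : K ⟶ K) (hK : ∀ i ∉ W, IsZero (K.X i)) (P : ℤ → Prop) [DecidablePred P] :
    (∏ᶠ i : {i : ℤ // P i}, SGA4h.detOneSub (K.X i.1) (u₀.f i.1)) =
      ∏ i ∈ W with P i, SGA4h.detOneSub (K.X i) (u₀.f i) := by
  rw [finprod_eq_prod_of_mulSupport_subset _ (s := W.subtype P), ← Finset.prod_subtype_eq_prod_filter]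
  intro i hi
  rw [Finset.mem_coe, Finset.mem_subtype]
  by_contra h
  exact hi (detOneSub_zero _ _ (hK _ h))

theorem det_pev (u₀ : K ⟶ K) (hK : ∀ i ∉ W, IsZero (K.X i)) :
    (pev (deg W K) * (1 - (X : A[X]) • (mat W (deg0 u₀)).map Polynomial.C) + pod (deg W K)).det =
      SGA4h.detEven K u₀ := by
  classical
  rw [SGA4h.detEven, finprod_eq W u₀ hK]
  have h := det_block W u₀ {i | Even i}
  simp only [Set.mem_setOf_eq] at h
  rw [pev, pod]
  convert h using 3

theorem det_pod (u₀ : K ⟶ K) (hK : ∀ i ∉ W, IsZero (K.X i)) :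
    (pev (deg W K) + pod (deg W K) * (1 - (X : A[X]) • (mat W (deg0 u₀)).map Polynomial.C)).det =
      SGA4h.detOdd K u₀ := by
  classical
  rw [SGA4h.detOdd, finprod_eq W u₀ hK, add_comm]
  have h := det_block W u₀ {i | Odd i}
  simp only [Set.mem_setOf_eq] at h
  rw [pev, pod]
  have e1 : ∀ (x : Idx W K) (a b : A[X]),
      (if Odd (deg W K x) then a else b) = (if Even (deg W K x) then b else a) := fun x a b => by
    by_cases hx : Even (deg W K x) <;> simp [hx, ← Int.not_even_iff_odd]
  simp only [e1] at h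
  exact h

theorem main [HasDerivedCategory (ModuleCat.{u} A)] {K' : CochainComplex (ModuleCat.{u} A) ℤ}
    [∀ i, Module.Finite A (K'.X i)] [∀ i, Module.Free A (K'.X i)]
    (a b : ℤ) [K.IsStrictlyGE a] [K.IsStrictlyLE b] [K'.IsStrictlyGE a] [K'.IsStrictlyLE b]
    (u₀ : K ⟶ K) (u₁ : K' ⟶ K') (φ : DerivedCategory.Q.obj K ≅ DerivedCategory.Q.obj K')
    (hφ : DerivedCategory.Q.map u₀ ≫ φ.hom = φ.hom ≫ DerivedCategory.Q.map u₁) :
    SGA4h.detEven K u₀ * SGA4h.detOdd K' u₁ = SGA4h.detOdd K u₀ * SGA4h.detEven K' u₁ := by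
  have hbd : ∀ (N : CochainComplex (ModuleCat.{u} A) ℤ) [N.IsStrictlyGE a] [N.IsStrictlyLE b],
      ∀ i ∉ Finset.Icc a b, IsZero (N.X i) := fun N _ _ i hi => by
    rw [Finset.mem_Icc, not_and_or, not_le, not_le] at hi
    exact hi.elim (fun h => N.isZero_of_isStrictlyGE a i h) (fun h => N.isZero_of_isStrictlyLE b i h)
  haveI hp : ∀ i, Projective (K.X i) := fun i =>
    (IsProjective.iff_projective (R := A) (K.X i)).1 inferInstance
  haveI hp' : ∀ i, Projective (K'.X i) := fun i =>
    (IsProjective.iff_projective (R := A) (K'.X i)).1 inferInstance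
  haveI := CochainComplex.isKProjective_of_projective K b
  haveI := CochainComplex.isKProjective_of_projective K' b
  let C := ModuleCat.{u} A
  let η := DerivedCategory.quotientCompQhIso C
  let q := HomotopyCategory.quotient C (ComplexShape.up ℤ)
  have surj : ∀ {N N' : CochainComplex C ℤ} [N.IsKProjective] (ψ : DerivedCategory.Q.obj N ⟶ DerivedCategory.Q.obj N'),
      ∃ f : N ⟶ N', DerivedCategory.Q.map f = ψ := fun {N N'} _ ψ => by
    obtain ⟨g, hg⟩ := (CochainComplex.IsKProjective.Qh_map_bijective N (q.obj N')).surjective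
      (η.hom.app N ≫ ψ ≫ η.inv.app N')
    obtain ⟨f, rfl⟩ := q.map_surjective g
    refine ⟨f, ?_⟩
    rw [← cancel_epi (η.hom.app N), ← η.hom.naturality f]
    show DerivedCategory.Qh.map (q.map f) ≫ η.hom.app N' = _
    rw [hg, Category.assoc, Category.assoc, Iso.inv_hom_id_app, Category.comp_id]
  have inj : ∀ {N N' : CochainComplex C ℤ} [N.IsKProjective] (f g : N ⟶ N'),
      DerivedCategory.Q.map f = DerivedCategory.Q.map g → Nonempty (Homotopy f g) := fun {N N'} _ f g h => by
    refine ⟨HomotopyCategory.homotopyOfEq _ _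
      ((CochainComplex.IsKProjective.Qh_map_bijective N (q.obj N')).injective ?_)⟩
    rw [← cancel_mono (η.hom.app N')]
    exact (η.hom.naturality f).trans ((h ▸ rfl : _ = η.hom.app N ≫ DerivedCategory.Q.map g).trans
      (η.hom.naturality g).symm)
  obtain ⟨f, hf⟩ := surj φ.hom
  obtain ⟨g, hg⟩ := surj φ.inv
  obtain ⟨H1⟩ := inj (f ≫ g) (𝟙 K) (by rw [CategoryTheory.Functor.map_comp, hf, hg, Iso.hom_inv_id, CategoryTheory.Functor.map_id])
  obtain ⟨H2⟩ := inj (g ≫ f) (𝟙 K') (by rw [CategoryTheory.Functor.map_comp, hf, hg, Iso.inv_hom_id, CategoryTheory.Functor.map_id])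
  obtain ⟨H3⟩ := inj (u₀ ≫ f) (f ≫ u₁) (by rw [CategoryTheory.Functor.map_comp, CategoryTheory.Functor.map_comp, hf, hφ])
  let W := Finset.Icc a b
  obtain ⟨hd1, e1⟩ := mat_homotopy W H1 (hbd K) (hbd K)
  obtain ⟨hd2, e2⟩ := mat_homotopy W H2 (hbd K') (hbd K')
  obtain ⟨hd3, e3⟩ := mat_homotopy W H3 (hbd K) (hbd K')
  rw [mat_id] at e1 e2
  rw [← mat_comp] at e1 e2 e3
  rw [← mat_comp W f u₁] at e3
  have key := det_invariant (X : A[X]) (gK := deg W K) (gL := deg W K')
    (d := (mat W K.d).map Polynomial.C) (u := (mat W (deg0 u₀)).map Polynomial.C)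
    (a := (mat W H1.hom).map Polynomial.C) (d' := (mat W K'.d).map Polynomial.C)
    (u' := (mat W (deg0 u₁)).map Polynomial.C) (b := -(mat W H2.hom).map Polynomial.C)
    (f := (mat W (deg0 f)).map Polynomial.C) (h := (mat W H3.hom).map Polynomial.C)
    (g := (mat W (deg0 g)).map Polynomial.C)
    (deg_map (mat_d_deg W)) (deg_map (mat_deg0 W u₀)) (deg_map hd1)
    (deg_map (mat_d_deg W)) (deg_map (mat_deg0 W u₁)) (deg_map hd2).neg
    (deg_map (mat_deg0 W f)) (deg_map hd3) (deg_map (mat_deg0 W g))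
    (by rw [← Matrix.map_mul, mat_dd]; exact Matrix.map_zero _ (map_zero _))
    (by rw [← Matrix.map_mul, mat_dd]; exact Matrix.map_zero _ (map_zero _))
    (by rw [← Matrix.map_mul, mat_comm, Matrix.map_mul])
    (by rw [← Matrix.map_mul, mat_comm, Matrix.map_mul])
    (by rw [← Matrix.map_mul, mat_comm, Matrix.map_mul])
    (by rw [← Matrix.map_mul, mat_comm, Matrix.map_mul])
    (by
      rw [← Matrix.map_mul, e1]
      simp only [Matrix.map_add _ (map_add Polynomial.C), Matrix.map_mul, Matrix.map_one _ (map_zero Polynomial.C) (map_one Polynomial.C)]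
      abel)
    (by
      rw [← Matrix.map_mul, e2]
      simp only [Matrix.map_add _ (map_add Polynomial.C), Matrix.map_mul, Matrix.map_one _ (map_zero Polynomial.C) (map_one Polynomial.C),
        Matrix.mul_neg, Matrix.neg_mul]
      abel)
    (by
      rw [← Matrix.map_mul, e3]
      simp only [Matrix.map_add _ (map_add Polynomial.C), Matrix.map_mul]
      abel)
  rw [det_pev W u₀ (hbd K), det_pod W u₁ (hbd K'), det_pod W u₀ (hbd K), det_pev W u₁ (hbd K')] at key
  exact key
where
  deg_map {ι κ : Type u} {g : ι → ℤ} {h : κ → ℤ} {n : ℤ} {M : Matrix ι κ A} (hM : Deg g h n M) :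
      Deg g h n (M.map Polynomial.C) := fun i j hne => by rw [Matrix.map_apply, hM i j hne, map_zero]

end Groth.Agent.DetEuler31
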