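import Groth.Agent.DetEuler31.Core

/-! Invariance of alternating determinants under homotopy equivalence, in matrices. -/

set_option autoImplicit false

universe u v w

open Matrix

namespace Groth.Agent.DetEuler31

variable {R : Type u} [CommRing R] {ι : Type v} {κ : Type w} [Fintype ι] [DecidableEq ι] [Fintype κ] [DecidableEq κ]
  {gK : ι → ℤ} {gL : κ → ℤ}

theorem det_invariant (x : R) {d u a : Matrix ι ι R} {d' u' b : Matrix κ κ R} {f h : Matrix κ ι R} {g : Matrix ι κ R}
    (hd : Deg gK gK 1 d) (hu : Deg gK gK 0 u) (ha : Deg gK gK (-1) a)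
    (hd' : Deg gL gL 1 d') (hu' : Deg gL gL 0 u') (hb : Deg gL gL (-1) b)
    (hf : Deg gL gK 0 f) (hh : Deg gL gK (-1) h) (hg : Deg gK gL 0 g)
    (hdd : d * d = 0) (hdd' : d' * d' = 0) (hud : d * u = u * d) (hud' : d' * u' = u' * d')
    (hfd : d' * f = f * d) (hgd : d * g = g * d')
    (hgf : g * f = 1 + (d * a + a * d)) (hfg : f * g = 1 - (d' * b + b * d'))
    (hfu : f * u - u' * f = d' * h + h * d) :
    (pev gK * (1 - x • u) + pod gK).det * (pev gL + pod gL * (1 - x • u')).det =
      (pev gK + pod gK * (1 - x • u)).det * (pev gL * (1 - x • u') + pod gL).det := by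
  let gT : ι ⊕ κ → ℤ := Sum.elim (fun i => gK i - 1) gL
  have hblk : ∀ (n : ℤ) (A : Matrix ι ι R) (B : Matrix ι κ R) (C : Matrix κ ι R) (D : Matrix κ κ R),
      Deg gK gK n A → Deg gK gL (n + 1) B → Deg gL gK (n - 1) C → Deg gL gL n D →
        Deg gT gT n (fromBlocks A B C D) := by
    intro n A B C D hA hB hC hD i j hne
    rcases i with i | i <;> rcases j with j | j <;> simp only [gT, Sum.elim_inl, Sum.elim_inr] at hne
    · exact hA i j (fun e => hne (by omega))
    · exact hB i j (fun e => hne (by omega))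
    · exact hC i j (fun e => hne (by omega))
    · exact hD i j (fun e => hne (by omega))
  let DT := fromBlocks (-d) 0 f d'
  let UT := fromBlocks u 0 (-h) u'
  let S0 := fromBlocks a g 0 b
  let n := f * a + b * f
  let E := fromBlocks (1 : Matrix ι ι R) 0 n (1 : Matrix κ κ R)
  let E' := fromBlocks (1 : Matrix ι ι R) 0 (-n) (1 : Matrix κ κ R)
  have hDT : Deg gT gT 1 DT := hblk 1 _ _ _ _ hd.neg (fun _ _ _ => rfl) (by simpa using hf) hd'
  have hUT : Deg gT gT 0 UT := hblk 0 _ _ _ _ hu (fun _ _ _ => rfl) (by simpa using hh.neg) hu'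
  have hS0 : Deg gT gT (-1) S0 := hblk (-1) _ _ _ _ ha (by simpa using hg) (fun _ _ _ => rfl) hb
  have hn : Deg gL gK (-1) n := (hf.mul ha (by norm_num)).add (hb.mul hf (by norm_num))
  have hE' : Deg gT gT 0 E' := hblk 0 _ _ _ _ deg_one (fun _ _ _ => rfl) (by simpa using hn.neg) deg_one
  have hDD : DT * DT = 0 := by
    simp only [DT, fromBlocks_multiply, neg_mul, mul_neg, neg_neg, hdd, hdd', Matrix.mul_zero, Matrix.zero_mul,
      add_zero, zero_add, Matrix.neg_mul, Matrix.mul_neg]
    rw [hfd, neg_add_cancel, fromBlocks_zero]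
  have hE : DT * S0 + S0 * DT = E := by
    simp only [DT, S0, E, fromBlocks_multiply, fromBlocks_add, Matrix.mul_zero, Matrix.zero_mul,
      Matrix.neg_mul, Matrix.mul_neg, neg_zero, add_zero, zero_add]
    congr 1
    · rw [hgf]; abel
    · rw [hgd, neg_add_cancel]
    · rw [hfg]; abel
  have hEE : E' * E = 1 := by
    simp only [E, E', fromBlocks_multiply, Matrix.mul_zero, Matrix.zero_mul, Matrix.mul_one, Matrix.one_mul,
      add_zero, zero_add, neg_add_cancel]
    exact fromBlocks_one
  have hEE' : E * E' = 1 := mul_eq_one_comm.1 hEE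
  have hDE : DT * E = E * DT := by
    rw [← hE, mul_add, add_mul, ← mul_assoc DT DT, hDD, zero_mul, zero_add, mul_assoc S0 DT DT, hDD, mul_zero,
      add_zero, mul_assoc]
  have hDE' : DT * E' = E' * DT := by
    calc DT * E' = E' * E * (DT * E') := by rw [hEE, one_mul]
      _ = E' * (DT * E) * E' := by rw [hDE]; simp only [mul_assoc]
      _ = E' * DT := by rw [mul_assoc, mul_assoc DT, hEE', mul_one]
  have hDU : DT * UT = UT * DT := by
    simp only [DT, UT, fromBlocks_multiply, Matrix.mul_zero, Matrix.zero_mul, Matrix.neg_mul, Matrix.mul_neg,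
      neg_zero, add_zero, zero_add, neg_neg, hud, hud']
    congr 1
    rw [eq_add_of_sub_eq hfu]; abel
  have hD : Deg gT gT 0 (1 - x • UT) := deg_one.sub (hUT.smul x)
  have hS : Deg gT gT (-1) (E' * S0) := hE'.mul hS0 (by norm_num)
  have key := det_even_eq_odd hDT hS hD hDD
    (by rw [← mul_assoc, hDE', mul_assoc, mul_assoc E' S0, ← mul_add, hE, hEE])
    (by rw [mul_sub, sub_mul, mul_one, one_mul, Matrix.mul_smul, Matrix.smul_mul, hDU])
  have h1 : (pev gT : Matrix (ι ⊕ κ) (ι ⊕ κ) R) = fromBlocks (pod gK) 0 0 (pev gL) := by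
    rw [pod, pev, pev, fromBlocks_diagonal]
    refine congrArg diagonal (funext fun i => ?_)
    rcases i with i | i
    · by_cases h2 : Even (gK i) <;> simp [gT, Int.even_sub, h2]
    · simp only [gT, Sum.elim_inr]
      exact if_congr Iff.rfl rfl rfl
  have h2 : (pod gT : Matrix (ι ⊕ κ) (ι ⊕ κ) R) = fromBlocks (pev gK) 0 0 (pod gL) := by
    rw [pod, pev, pod, fromBlocks_diagonal]
    refine congrArg diagonal (funext fun i => ?_)
    rcases i with i | i
    · by_cases h2 : Even (gK i) <;> simp [gT, Int.even_sub, h2]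
    · simp only [gT, Sum.elim_inr]
      exact if_congr Iff.rfl rfl rfl
  have h3 : (1 - x • UT : Matrix (ι ⊕ κ) (ι ⊕ κ) R) = fromBlocks (1 - x • u) 0 (x • h) (1 - x • u') := by
    rw [show UT = fromBlocks u 0 (-h) u' from rfl, ← fromBlocks_one, fromBlocks_smul, sub_eq_add_neg,
      fromBlocks_neg, fromBlocks_add]
    simp [sub_eq_add_neg]
  rw [h1, h2, h3, fromBlocks_multiply, fromBlocks_multiply, fromBlocks_add, fromBlocks_add] at key
  simp only [Matrix.mul_zero, Matrix.zero_mul, add_zero, zero_add] at key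
  rw [det_fromBlocks_zero₁₂, det_fromBlocks_zero₁₂, add_comm (pod gK * _) (pev gK),
    add_comm (pod gK) (pev gK * _)] at key
  exact key.symm

end Groth.Agent.DetEuler31
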