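import Mathlib.LinearAlgebra.Matrix.Block
import Mathlib.Algebra.Polynomial.Eval.Defs
import Mathlib.Algebra.Polynomial.Degree.Lemmas
import Mathlib.Algebra.Ring.Int.Parity
import Mathlib.LinearAlgebra.Matrix.Polynomial
import Mathlib.Tactic.NoncommRing
import Mathlib.Tactic.Abel

/-! The Euler characteristic of determinants on a split exact complex, in matrices. -/

set_option autoImplicit false

universe u v w

open Matrix

namespace Groth.Agent.DetEuler31

variable {R : Type u} [CommRing R] {ι : Type v} {κ : Type w}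

/-- homogeneous matrices -/
def Deg (g : ι → ℤ) (h : κ → ℤ) (n : ℤ) (M : Matrix ι κ R) : Prop := ∀ i j, g i ≠ h j + n → M i j = 0

variable {g : ι → ℤ} {h : κ → ℤ}

theorem Deg.mul [Fintype κ] {τ : Type*} {k : τ → ℤ} {n m : ℤ} {M : Matrix ι κ R} {N : Matrix κ τ R}
    (hM : Deg g h n M) (hN : Deg h k m N) {l : ℤ} (hl : n + m = l) : Deg g k l (M * N) := by
  intro i j hne
  rw [Matrix.mul_apply]
  refine Finset.sum_eq_zero fun a _ => ?_
  by_cases h1 : g i = h a + n
  · rw [hN a j (fun h2 => hne (by omega)), mul_zero]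
  · rw [hM i a h1, zero_mul]

theorem Deg.add {n : ℤ} {M N : Matrix ι κ R} (hM : Deg g h n M) (hN : Deg g h n N) : Deg g h n (M + N) :=
  fun i j hne => by rw [Matrix.add_apply, hM i j hne, hN i j hne, add_zero]

theorem Deg.neg {n : ℤ} {M : Matrix ι κ R} (hM : Deg g h n M) : Deg g h n (-M) :=
  fun i j hne => by rw [Matrix.neg_apply, hM i j hne, neg_zero]

theorem Deg.sub {n : ℤ} {M N : Matrix ι κ R} (hM : Deg g h n M) (hN : Deg g h n N) : Deg g h n (M - N) :=
  fun i j hne => by rw [Matrix.sub_apply, hM i j hne, hN i j hne, sub_zero]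

theorem Deg.smul {n : ℤ} (c : R) {M : Matrix ι κ R} (hM : Deg g h n M) : Deg g h n (c • M) :=
  fun i j hne => by rw [Matrix.smul_apply, hM i j hne, smul_zero]

variable [Fintype ι] [DecidableEq ι]

omit [Fintype ι] in
theorem deg_diagonal (f : ι → R) : Deg g g 0 (diagonal f) :=
  fun i j hne => diagonal_apply_ne _ fun e => hne (by rw [e, add_zero])

omit [Fintype ι] in
theorem deg_one : Deg g g 0 (1 : Matrix ι ι R) := by
  rw [← diagonal_one]; exact deg_diagonal _

/-- projector on even degrees -/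
def pev (g : ι → ℤ) : Matrix ι ι R := diagonal fun i => if Even (g i) then 1 else 0

/-- projector on odd degrees -/
def pod (g : ι → ℤ) : Matrix ι ι R := diagonal fun i => if Even (g i) then 0 else 1

omit [Fintype ι] in
theorem pev_add_pod : pev g + pod g = (1 : Matrix ι ι R) := by
  rw [pev, pod, diagonal_add, ← diagonal_one]
  exact congrArg diagonal (funext fun i => by split <;> simp)

theorem pev_comm {n : ℤ} (hn : Even n) {M : Matrix ι ι R} (hM : Deg g g n M) : pev g * M = M * pev g := by
  ext i j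
  rw [pev, diagonal_mul, mul_diagonal]
  by_cases h1 : g i = g j + n
  · have : Even (g i) ↔ Even (g j) := by rw [h1, Int.even_add]; simp [hn]
    simp only [this]
    ring
  · rw [hM i j h1, mul_zero, zero_mul]

theorem mul_pev {n : ℤ} (hn : ¬ Even n) {M : Matrix ι ι R} (hM : Deg g g n M) : M * pev g = pod g * M := by
  ext i j
  rw [pev, pod, diagonal_mul, mul_diagonal]
  by_cases h1 : g i = g j + n
  · have : Even (g i) ↔ ¬ Even (g j) := by rw [h1, Int.even_add]; simp [hn]
    by_cases h2 : Even (g j) <;> simp [this, h2]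
  · rw [hM i j h1, mul_zero, zero_mul]

theorem mul_pod {n : ℤ} (hn : ¬ Even n) {M : Matrix ι ι R} (hM : Deg g g n M) : M * pod g = pev g * M := by
  rw [show (pod g : Matrix ι ι R) = 1 - pev g from eq_sub_of_add_eq' pev_add_pod, mul_sub, mul_one,
    mul_pev hn hM, show (pod g : Matrix ι ι R) = 1 - pev g from eq_sub_of_add_eq' pev_add_pod, sub_mul, one_mul]
  abel

theorem det_add_lower {n : ℤ} (hn : n < 0) {M N : Matrix ι ι R} (hM : Deg g g 0 M) (hN : Deg g g n N) :
    (M + N).det = M.det := by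
  have hM' : BlockTriangular M g := fun i j hij => hM i j (by omega)
  have hN' : BlockTriangular (M + N) g := fun i j hij => by
    rw [Matrix.add_apply, hM' hij, hN i j (by omega), add_zero]
  rw [hM'.det, hN'.det]
  refine Finset.prod_congr rfl fun a _ => congrArg Matrix.det ?_
  ext ⟨i, hi⟩ ⟨j, hj⟩
  simp only [toSquareBlock_def, of_apply, Matrix.add_apply]
  rw [hN i j (by omega), add_zero]

open Polynomial in
theorem det_idem {P Q M : Matrix ι ι R} (hPQ : P + Q = 1) (hP : P * P = P) (hQMP : Q * M * P = 0) :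
    (P * M * P + Q * M * Q).det = M.det := by
  have hQ : Q = 1 - P := eq_sub_of_add_eq' hPQ
  have hPQ0 : P * Q = 0 := by rw [hQ, mul_sub, mul_one, hP, sub_self]
  have hQP0 : Q * P = 0 := by rw [hQ, sub_mul, one_mul, hP, sub_self]
  have hQQ : Q * Q = Q := by rw [hQ, sub_mul, one_mul, ← hQ, hPQ0, sub_zero]
  let F : Matrix ι ι R →+* Matrix ι ι R[X] := (Polynomial.C : R →+* R[X]).mapMatrix
  let U := F P + (X : R[X]) • F Q
  let U' := (X : R[X]) • F P + F Q
  let N := F (P * M * P + Q * M * Q) + (X : R[X]) • F (P * M * Q)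
  have e1 : U * U' = (X : R[X]) • (1 : Matrix ι ι R[X]) := by
    simp only [U, U', add_mul, mul_add, Matrix.mul_smul, Matrix.smul_mul, ← map_mul, hP, hQQ, hPQ0, hQP0,
      map_zero, smul_zero, add_zero, zero_add]
    rw [← smul_add, ← map_add, hPQ, map_one]
  have e2 : U * N = F M * U := by
    simp only [U, N, add_mul, mul_add, Matrix.mul_smul, Matrix.smul_mul, ← map_mul, map_add]
    have a1 : P * (P * M * P) = P * M * P := by rw [← mul_assoc, ← mul_assoc, hP]
    have a2 : P * (Q * M * Q) = 0 := by rw [← mul_assoc, ← mul_assoc, hPQ0, zero_mul, zero_mul]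
    have a3 : P * (P * M * Q) = P * M * Q := by rw [← mul_assoc, ← mul_assoc, hP]
    have a4 : Q * (P * M * P) = 0 := by rw [← mul_assoc, ← mul_assoc, hQP0, zero_mul, zero_mul]
    have a5 : Q * (Q * M * Q) = Q * M * Q := by rw [← mul_assoc, ← mul_assoc, hQQ]
    have a6 : Q * (P * M * Q) = 0 := by rw [← mul_assoc, ← mul_assoc, hQP0, zero_mul, zero_mul]
    have a7 : M * P = P * M * P := by
      conv_lhs => rw [← one_mul M, ← hPQ, add_mul, add_mul, hQMP, add_zero]
    have a8 : M * Q = P * M * Q + Q * M * Q := by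
      conv_lhs => rw [← one_mul M, ← hPQ, add_mul, add_mul]
    rw [a1, a2, a3, a4, a5, a6, a7, a8, map_add]
    simp only [map_zero, smul_zero, add_zero, zero_add, smul_add]
    abel
  have hreg : IsRegular U.det := by
    have h1 : U.det * U'.det = (X : R[X]) ^ Fintype.card ι := by
      rw [← det_mul, e1, det_smul, det_one, mul_one]
    have h2 : IsRegular ((X : R[X]) ^ Fintype.card ι) := (Polynomial.monic_X_pow _).isRegular
    rw [← h1] at h2
    exact (isRegular_mul_iff.1 h2).1
  have e3 : N.det = (F M).det := hreg.left (show U.det * N.det = U.det * (F M).det by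
    rw [← det_mul, e2, det_mul, mul_comm])
  have e4 := congrArg (Polynomial.evalRingHom (0 : R)) e3
  rw [RingHom.map_det, RingHom.map_det] at e4
  have hF : ∀ Y : Matrix ι ι R, (Polynomial.evalRingHom (0 : R)).mapMatrix (F Y) = Y := fun Y => by
    ext i j; simp [F]
  rw [hF] at e4
  rw [← e4]
  congr 1
  ext i j
  simp [N, F]

/-- A split exact complex: the determinant in even and in odd degrees agree. -/
theorem det_even_eq_odd {d s D : Matrix ι ι R} (hd : Deg g g 1 d) (hs : Deg g g (-1) s) (hD : Deg g g 0 D)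
    (hdd : d * d = 0) (hds : d * s + s * d = 1) (hdD : d * D = D * d) :
    (pev g * D + pod g).det = (pev g + pod g * D).det := by
  have hse : s * d = 1 - d * s := eq_sub_of_add_eq' hds
  have hdsd : d * s * d = d := by
    rw [mul_assoc, hse, mul_sub, mul_one, ← mul_assoc, hdd, zero_mul, sub_zero]
  have hPP : d * s * (d * s) = d * s := by rw [← mul_assoc, hdsd]
  obtain ⟨Φ, hΦ⟩ : ∃ Φ, Φ = d + s := ⟨_, rfl⟩
  have hne : ∀ n : ℤ, n = 1 ∨ n = -1 → ¬ Even n := by rintro n (rfl | rfl) <;> decide
  have hΦev : Φ * pev g = pod g * Φ := by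
    simp only [hΦ, add_mul, mul_add, mul_pev (hne 1 (.inl rfl)) hd, mul_pev (hne (-1) (.inr rfl)) hs]
  have hΦod : Φ * pod g = pev g * Φ := by
    simp only [hΦ, add_mul, mul_add, mul_pod (hne 1 (.inl rfl)) hd, mul_pod (hne (-1) (.inr rfl)) hs]
  have hΦΦ : Φ * Φ = 1 + s * s := by
    simp only [hΦ, add_mul, mul_add, hdd]
    rw [← hds]; abel
  have hΦdet : Φ.det * Φ.det = 1 := by
    rw [← det_mul, hΦΦ, det_add_lower (n := -2) (by norm_num) deg_one (hs.mul hs rfl), det_one]
  have hΦDΦ : Φ * D * Φ = (D * (d * s) + s * d * D) + s * D * s := by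
    simp only [hΦ, add_mul, mul_add]
    rw [hdD, show D * d * d = 0 by rw [mul_assoc, hdd, mul_zero], mul_assoc D d s, mul_assoc s D d, ← hdD,
      ← mul_assoc s d D]
    abel
  let M1 := pev g * (D * (d * s) + s * d * D) + pod g
  let M2 := pev g * (s * D * s) + pod g * (s * s)
  have hmain : Φ * (pev g + pod g * D) * Φ = M1 + M2 := by
    rw [mul_add, add_mul, hΦev, ← mul_assoc Φ, hΦod, mul_assoc (pod g) Φ Φ, hΦΦ, mul_assoc (pev g) Φ D,
      mul_assoc (pev g) (Φ * D) Φ, hΦDΦ]
    simp only [M1, M2, mul_add, mul_one]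
    abel
  have h0 : Deg g g 0 (D * (d * s) + s * d * D) :=
    (hD.mul (hd.mul hs rfl) (by norm_num)).add ((hs.mul hd rfl).mul hD (by norm_num))
  have hM1 : Deg g g 0 M1 := ((deg_diagonal _).mul h0 (by norm_num)).add (deg_diagonal _)
  have hM2 : Deg g g (-2) M2 :=
    ((deg_diagonal _).mul ((hs.mul hD rfl).mul hs rfl) (by norm_num)).add
      ((deg_diagonal _).mul (hs.mul hs rfl) (by norm_num))
  have h1 : M1.det = (pev g + pod g * D).det := by
    rw [← det_add_lower (n := -2) (by norm_num) hM1 hM2, ← hmain, det_mul, det_mul,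
      mul_right_comm, hΦdet, one_mul]
  rw [← h1]
  -- the idempotents `d s` and `s d`
  have hPQ : d * s + s * d = 1 := hds
  have hP0 : Deg g g 0 (d * s) := hd.mul hs (by norm_num)
  have hQ0 : Deg g g 0 (s * d) := hs.mul hd (by norm_num)
  have cPe := pev_comm (n := 0) (by simp) hP0
  have cQe := pev_comm (n := 0) (by simp) hQ0
  have hpo : (pod g : Matrix ι ι R) = 1 - pev g := eq_sub_of_add_eq' pev_add_pod
  have cPo : d * s * pod g = pod g * (d * s) := by rw [hpo, mul_sub, sub_mul, mul_one, one_mul, cPe]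
  have cQo : s * d * pod g = pod g * (s * d) := by rw [hpo, mul_sub, sub_mul, mul_one, one_mul, cQe]
  have hQD : s * d * D * (d * s) = 0 := by
    rw [mul_assoc s d D, hdD, mul_assoc, mul_assoc D d, ← mul_assoc d d s, hdd, zero_mul, mul_zero, mul_zero]
  have hQP : s * d * (d * s) = 0 := by
    rw [mul_assoc s d, ← mul_assoc d d s, hdd, zero_mul, mul_zero]
  have hPD : d * s * D * (d * s) = D * (d * s) := by
    have e : d * s * D * d = D * d := by rw [mul_assoc, ← hdD, ← mul_assoc, hdsd]
    rw [← mul_assoc _ d s, e, mul_assoc]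
  have hQD' : s * d * D * (s * d) = s * d * D := by
    rw [hse, mul_sub, mul_one, ← hse, hQD, sub_zero]
  have hQQ : s * d * (s * d) = s * d := by
    rw [mul_assoc s d (s * d), ← mul_assoc d s d, hdsd]
  have hM : (d * s) * (pev g * D + pod g) * (d * s) + (s * d) * (pev g * D + pod g) * (s * d) = M1 := by
    rw [mul_add, add_mul, mul_add, add_mul, ← mul_assoc _ (pev g) D, ← cPe, ← mul_assoc _ (pev g) D, ← cQe,
      cPo, cQo, mul_assoc (pev g) (d * s) D, mul_assoc (pev g) _ (d * s), hPD,
      mul_assoc (pev g) (s * d) D, mul_assoc (pev g) _ (s * d), hQD',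
      mul_assoc (pod g), hPP, mul_assoc (pod g), hQQ]
    show _ = pev g * (D * (d * s) + s * d * D) + pod g
    rw [mul_add]
    conv_rhs => rw [← mul_one (pod g), ← hds, mul_add]
    abel
  rw [← hM, det_idem hPQ hPP]
  rw [mul_add, add_mul, ← mul_assoc _ (pev g) D, ← cQe, mul_assoc (pev g) (s * d) D,
    mul_assoc (pev g) _ (d * s), hQD, mul_zero, cQo, mul_assoc (pod g), hQP, mul_zero, add_zero]

end Groth.Agent.DetEuler31
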